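import Groth.Agent.DiagRig.EqLocus
import Groth.Agent.StrictSSLib.Component
import Groth.Agent.S2280
import Groth.Agent.S12104

/-!
# Landing in a closed subscheme is flat-pointwise; charts of base changes
-/

universe u

open CategoryTheory Limits AlgebraicGeometry
open scoped TensorProduct

noncomputable section

namespace Groth.Agent.DiagRig.WeilLocus

/-- A closed immersion admitting sections over a flat covering by points is an isomorphism. -/
theorem isIso_of_pointwise {Z P : Scheme.{u}} (z : Z ⟶ P) [IsClosedImmersion z]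
    (h : ∀ p : P, ∃ (P' : Scheme.{u}) (m : P' ⟶ P) (l : P' ⟶ Z), Flat m ∧ (∃ q, m q = p) ∧ l ≫ z = m) :
    IsIso z := by
  have hsurj : Function.Surjective z := fun p => by
    obtain ⟨P', m, l, -, ⟨q, hq⟩, hl⟩ := h p
    exact ⟨l q, by rw [← Scheme.Hom.comp_apply, hl, hq]⟩
  have hbase : IsIso z.base := by
    let e := z.isClosedEmbedding.isEmbedding.toHomeomorphOfSurjective hsurj
    exact (inferInstance : IsIso (TopCat.isoOfHomeo e).hom)
  refine (isIso_iff_isIso_stalkMap z).mpr ⟨hbase, fun w => ?_⟩
  rw [ConcreteCategory.isIso_iff_bijective]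
  refine ⟨?_, z.stalkMap_surjective w⟩
  obtain ⟨P', m, l, hm, ⟨q, hq⟩, hl⟩ := h (z w)
  have hw : l q = w := z.isClosedEmbedding.injective (by rw [← Scheme.Hom.comp_apply, hl, hq])
  subst hw
  subst hl
  have hinj : Function.Injective ((l ≫ z).stalkMap q).hom := by
    algebraize [((l ≫ z).stalkMap q).hom]
    have : Module.FaithfullyFlat (P.presheaf.stalk ((l ≫ z) q)) (P'.presheaf.stalk q) :=
      @Module.FaithfullyFlat.of_flat_of_isLocalHom _ _ _ _ _ _ _
        (Flat.stalkMap (l ≫ z) q) ((l ≫ z).toLRSHom.prop q)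
    exact ‹RingHom.FaithfullyFlat _›.injective
  rw [Scheme.Hom.stalkMap_comp] at hinj
  exact fun a b hab => hinj (congrArg (l.stalkMap q).hom hab)

/-- Factoring through a closed immersion is local for flat families of points. -/
theorem exists_lift_of_pointwise {Y X P : Scheme.{u}} (y : Y ⟶ X) [IsClosedImmersion y] (a : P ⟶ X)
    (h : ∀ p : P, ∃ (P' : Scheme.{u}) (m : P' ⟶ P) (l : P' ⟶ Y), Flat m ∧ (∃ q, m q = p) ∧ l ≫ y = m ≫ a) :
    ∃ l : P ⟶ Y, l ≫ y = a := by
  have : IsIso (pullback.snd y a) := isIso_of_pointwise _ fun p => by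
    obtain ⟨P', m, l, hm, hp, hl⟩ := h p
    exact ⟨P', m, pullback.lift l m hl, hm, hp, pullback.lift_snd _ _ _⟩
  exact ⟨inv (pullback.snd y a) ≫ pullback.fst y a, by
    rw [Category.assoc, pullback.condition, IsIso.inv_hom_id_assoc]⟩

variable {S X Y : Scheme.{u}} (f : X ⟶ S) (y : Y ⟶ X)

/-- The base change of `X` along `g` lands in `Y`. -/
def Lands ⦃T : Scheme.{u}⦄ (g : T ⟶ S) : Prop :=
  ∃ l : pullback f g ⟶ Y, l ≫ y = pullback.fst f g

variable {f y}

theorem Lands.comp {T T' : Scheme.{u}} (c : T' ⟶ T) {g : T ⟶ S} (h : Lands f y g) : Lands f y (c ≫ g) := by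
  obtain ⟨l, hl⟩ := h
  exact ⟨pullback.lift (pullback.fst f (c ≫ g)) (pullback.snd f (c ≫ g) ≫ c)
    (by rw [Category.assoc]; exact pullback.condition) ≫ l, by rw [Category.assoc, hl, pullback.lift_fst]⟩

/-- Landing can be checked on flat families of points of the base. -/
theorem Lands.of_pointwise [IsClosedImmersion y] {T : Scheme.{u}} (g : T ⟶ S)
    (h : ∀ t : T, ∃ (T' : Scheme.{u}) (c : T' ⟶ T), Flat c ∧ (∃ t', c t' = t) ∧ Lands f y (c ≫ g)) : Lands f y g := by
  refine exists_lift_of_pointwise y _ fun p => ?_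
  obtain ⟨T', c, hc, ⟨t', ht'⟩, l, hl⟩ := h (pullback.snd f g p)
  let m : pullback (pullback.snd f g) c ⟶ pullback f g := pullback.fst _ _
  obtain ⟨w, hw, -⟩ := Scheme.Pullback.exists_preimage_pullback (f := pullback.snd f g) (g := c) p t' ht'.symm
  refine ⟨_, m, pullback.lift (m ≫ pullback.fst f g) (pullback.snd _ c) ?_ ≫ l, inferInstance, ⟨w, hw⟩, ?_⟩
  · rw [Category.assoc, pullback.condition, pullback.condition_assoc]
  · rw [Category.assoc, hl, pullback.lift_fst]

variable (f)

/-- The fibre of a smooth morphism with connected geometric fibres over a geometric point is irreducible. -/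
theorem irreducibleSpace_geom [Smooth f] (hconn : ∀ s : S, ConnectedSpace ↥(pullback f (Red.geomPt s)))
    (K : Type u) [Field K] (q : Spec (CommRingCat.of K) ⟶ S) : IrreducibleSpace ↥(pullback f q) := by
  have := S12104.geometricallyConnected_of_geomPt f hconn
  have : ConnectedSpace ↥(pullback f q) := GeometricallyConnected.geometrically_connectedSpace _ _ _ (.of_hasPullback _ _)
  have : IsLocallyNoetherian (pullback f q) := LocallyOfFiniteType.isLocallyNoetherian (pullback.snd f q)
  have hd : ∀ x : ↥(pullback f q), IsDomain ((pullback f q).presheaf.stalk x) :=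
    StrictSSLib.isDomain_stalk_of_smooth (pullback.snd f q)
  have := (S2280.result (pullback f q)).2.mpr ⟨inferInstance, hd⟩
  infer_instance

section Chart

variable {f} {R B : Type u} [CommRing R] [CommRing B] [Algebra R B] (a : Spec (CommRingCat.of B) ⟶ X)
  (q : Spec (CommRingCat.of R) ⟶ S) (hw : a ≫ f = Spec.map (CommRingCat.ofHom (algebraMap R B)) ≫ q)
  (R' : Type u) [CommRing R'] [Algebra R R']

/-- The base change of a chart. -/
def chartMap : Spec (CommRingCat.of (R' ⊗[R] B)) ⟶
    pullback f (Spec.map (CommRingCat.ofHom (algebraMap R R')) ≫ q) :=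
  pullback.lift (Spec.map (CommRingCat.ofHom (Algebra.TensorProduct.includeRight : B →ₐ[R] R' ⊗[R] B).toRingHom) ≫ a)
    (Spec.map (CommRingCat.ofHom (algebraMap R' (R' ⊗[R] B)))) (by
      rw [Category.assoc, hw, ← Spec.map_comp_assoc, ← Spec.map_comp_assoc]
      congr 2
      ext r
      exact ((Algebra.TensorProduct.includeRight : B →ₐ[R] R' ⊗[R] B).commutes r).trans
        (IsScalarTower.algebraMap_apply R R' (R' ⊗[R] B) r))

theorem chartMap_fst : chartMap a q hw R' ≫ pullback.fst _ _ =
    Spec.map (CommRingCat.ofHom (Algebra.TensorProduct.includeRight : B →ₐ[R] R' ⊗[R] B).toRingHom) ≫ a :=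
  pullback.lift_fst _ _ _

theorem chartMap_snd : chartMap a q hw R' ≫ pullback.snd _ _ =
    Spec.map (CommRingCat.ofHom (algebraMap R' (R' ⊗[R] B))) :=
  pullback.lift_snd _ _ _

/-- The projection of the base changes. -/
def down : pullback f (Spec.map (CommRingCat.ofHom (algebraMap R R')) ≫ q) ⟶ pullback f q :=
  pullback.lift (pullback.fst _ _) (pullback.snd _ _ ≫ Spec.map (CommRingCat.ofHom (algebraMap R R')))
    (by rw [Category.assoc]; exact pullback.condition)

theorem isPullback_chartMap : IsPullback (chartMap a q hw R')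
    (Spec.map (CommRingCat.ofHom (Algebra.TensorProduct.includeRight : B →ₐ[R] R' ⊗[R] B).toRingHom))
    (down q R') (pullback.lift a (Spec.map (CommRingCat.ofHom (algebraMap R B))) hw) := by
  let r := Spec.map (CommRingCat.ofHom (algebraMap R R'))
  have h1 : IsPullback (down q R') (pullback.snd f (r ≫ q)) (pullback.snd f q) r :=
    IsPullback.of_right (by rw [down, pullback.lift_fst]; exact IsPullback.of_hasPullback f (r ≫ q))
      (pullback.lift_snd _ _ _) (IsPullback.of_hasPullback f q)
  have h2 : IsPullback (Spec.map (CommRingCat.ofHom (algebraMap R' (R' ⊗[R] B))))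
      (Spec.map (CommRingCat.ofHom (Algebra.TensorProduct.includeRight : B →ₐ[R] R' ⊗[R] B).toRingHom))
      r (Spec.map (CommRingCat.ofHom (algebraMap R B))) :=
    IsPullback.of_iso_pullback ⟨by
      rw [← Spec.map_comp, ← Spec.map_comp]
      congr 1
      ext x
      exact (IsScalarTower.algebraMap_apply R R' (R' ⊗[R] B) x).symm.trans
        ((Algebra.TensorProduct.includeRight : B →ₐ[R] R' ⊗[R] B).commutes x).symm⟩
      (pullbackSpecIso R R' B).symm (pullbackSpecIso_inv_fst' R R' B) (pullbackSpecIso_inv_snd R R' B)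
  refine IsPullback.of_right (h₁₂ := pullback.snd f (r ≫ q)) (h₂₂ := pullback.snd f q) ?_ ?_ h1.flip
  · rw [chartMap_snd, pullback.lift_snd]
    exact h2
  · ext1
    · rw [Category.assoc, Category.assoc, down, pullback.lift_fst, pullback.lift_fst, chartMap_fst]
    · rw [Category.assoc, Category.assoc, down, pullback.lift_snd, pullback.lift_snd, ← Category.assoc, chartMap_snd,
        ← Spec.map_comp, ← Spec.map_comp]
      congr 1
      ext x
      exact (IsScalarTower.algebraMap_apply R R' (R' ⊗[R] B) x).symm.trans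
        ((Algebra.TensorProduct.includeRight : B →ₐ[R] R' ⊗[R] B).commutes x).symm

variable (hj : IsOpenImmersion (pullback.lift a (Spec.map (CommRingCat.ofHom (algebraMap R B))) hw))

include hj in
theorem isOpenImmersion_chartMap : IsOpenImmersion (chartMap a q hw R') :=
  MorphismProperty.of_isPullback (P := @IsOpenImmersion) (isPullback_chartMap a q hw R').flip hj

theorem mem_range_chartMap (p : ↥(pullback f (Spec.map (CommRingCat.ofHom (algebraMap R R')) ≫ q)))
    (b : ↥(Spec (CommRingCat.of B)))
    (hb : pullback.lift a (Spec.map (CommRingCat.ofHom (algebraMap R B))) hw b = down q R' p) :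
    ∃ w, chartMap a q hw R' w = p := by
  obtain ⟨w, hw', -⟩ := Scheme.Pullback.exists_preimage_pullback
    (f := down q R') (g := pullback.lift a (Spec.map (CommRingCat.ofHom (algebraMap R B))) hw) p b hb.symm
  refine ⟨(isPullback_chartMap a q hw R').isoPullback.inv w, ?_⟩
  rw [← Scheme.Hom.comp_apply, IsPullback.isoPullback_inv_fst]
  exact hw'

include hj in
/-- A chart with a point over the base has connected geometric fibres. -/
theorem connectedSpace_chart [Smooth f] (hconn : ∀ s : S, ConnectedSpace ↥(pullback f (Red.geomPt s)))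
    (K : Type u) [Field K] [Algebra R K] (e : B →ₐ[R] K) : ConnectedSpace (PrimeSpectrum (K ⊗[R] B)) := by
  have := isOpenImmersion_chartMap a q hw K hj
  have := irreducibleSpace_geom f hconn K (Spec.map (CommRingCat.ofHom (algebraMap R K)) ≫ q)
  let eK : K ⊗[R] B →+* K :=
    (Algebra.TensorProduct.lift (AlgHom.id K K) e fun _ _ => Commute.all _ _).toRingHom
  have hne : Nonempty ↥(Spec (CommRingCat.of (K ⊗[R] B))) := ⟨PrimeSpectrum.comap eK default⟩
  have hirr : IsIrreducible (Set.range (chartMap a q hw K)) :=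
    ⟨Set.range_nonempty _, (IrreducibleSpace.isIrreducible_univ _).2.open_subset
      (chartMap a q hw K).isOpenEmbedding.isOpen_range (Set.subset_univ _)⟩
  have hc : _root_.IsConnected (Set.univ : Set ↥(Spec (CommRingCat.of (K ⊗[R] B)))) := by
    refine ⟨Set.univ_nonempty, ?_⟩
    rw [← (chartMap a q hw K).isOpenEmbedding.isInducing.isPreconnected_image, Set.image_univ]
    exact hirr.isConnected.isPreconnected
  exact connectedSpace_iff_univ.mpr hc

end Chart

end Groth.Agent.DiagRig.WeilLocus
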