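import Groth.Agent.MultType.InfNbhd
import Groth.Agent.DiagRig.EqLocus

/-!
# The ideal of coefficients of an ideal near a section of a smooth algebra
-/

universe u

open TensorProduct

namespace Groth.Agent.DiagRig.WeilLocus

open MultType.InfNbhd

variable {R B : Type u} [CommRing R] [CommRing B] [Algebra R B] [Algebra.Smooth R B]

/-- The coefficient ideals are finitely generated. -/
theorem fg_content (e : B →ₐ[R] R) (x : B) (n : ℕ) : (content e x n).FG := by
  haveI := projective_quot e n
  haveI : Module.Finite R (B ⧸ RingHom.ker e ^ (n + 1)) := by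
    haveI : Algebra.FiniteType R (B ⧸ RingHom.ker e ^ (n + 1)) :=
      Algebra.FiniteType.of_surjective (Ideal.Quotient.mkₐ R _)
        Ideal.Quotient.mk_surjective
    haveI : Algebra.IsIntegral R (B ⧸ RingHom.ker e ^ (n + 1)) := by
      refine ⟨fun z => ?_⟩
      obtain ⟨y, rfl⟩ := Ideal.Quotient.mk_surjective z
      refine ⟨(Polynomial.X - Polynomial.C (e y)) ^ (n + 1), (Polynomial.monic_X_sub_C _).pow _, ?_⟩
      rw [← Polynomial.aeval_def, map_pow, map_sub, Polynomial.aeval_X, Polynomial.aeval_C,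
        IsScalarTower.algebraMap_apply R B (B ⧸ RingHom.ker e ^ (n + 1)), Ideal.Quotient.algebraMap_eq, ← map_sub,
        ← map_pow]
      refine Ideal.Quotient.eq_zero_iff_mem.mpr (Ideal.pow_mem_pow ?_ _)
      change e (y - algebraMap R B (e y)) = 0
      rw [map_sub, e.commutes, Algebra.algebraMap_self_apply, sub_self]
    exact Algebra.IsIntegral.finite
  haveI : Module.Finite R (Module.Dual R (B ⧸ RingHom.ker e ^ (n + 1))) := inferInstance
  show Submodule.FG _
  unfold content
  rw [LinearMap.range_eq_map]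
  exact Submodule.FG.map _ Module.Finite.fg_top

/-- An element killed by a power of an element invertible at the section vanishes. -/
theorem eq_zero_of_away
    (hconn : ∀ (K : Type u) [Field K] [IsAlgClosed K] [Algebra R K], ConnectedSpace (PrimeSpectrum (K ⊗[R] B)))
    (e : B →ₐ[R] R) (g : B) (hg : IsUnit (e g)) (R' : Type u) [CommRing R'] [Algebra R R'] (z : R' ⊗[R] B) (k : ℕ)
    (hz : ((1 : R') ⊗ₜ[R] (g ^ k)) * z = 0) : z = 0 := by
  obtain ⟨v, hv⟩ := (hg.pow k).exists_left_inv
  refine eq_zero_of_mul hconn e R' (algebraMap R B v * g ^ k - 1) ?_ z ?_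
  · change e (algebraMap R B v * g ^ k - 1) = 0
    rw [map_sub, map_mul, map_one, map_pow, e.commutes, Algebra.algebraMap_self_apply, hv, sub_self]
  · rw [add_sub_cancel, ← one_mul (1 : R'), ← Algebra.TensorProduct.tmul_mul_tmul, mul_assoc, hz, mul_zero]

/-- A condition "`J` dies in the base change" is given by an ideal of the base. -/
theorem exists_ideal
    (hconn : ∀ (K : Type u) [Field K] [IsAlgClosed K] [Algebra R K], ConnectedSpace (PrimeSpectrum (K ⊗[R] B)))
    (e : B →ₐ[R] R) (J : Ideal B) :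
    ∃ I : Ideal R, (J.FG → I.FG) ∧ ∀ (R' : Type u) [CommRing R'] [Algebra R R'],
      I ≤ RingHom.ker (algebraMap R R') ↔ ∀ x ∈ J, (1 : R') ⊗ₜ[R] x = 0 := by
  classical
  choose n hn using exists_n hconn e
  obtain ⟨s, hs, hsfin⟩ : ∃ s : Set B, Ideal.span s = J ∧ (J.FG → s.Finite) := by
    by_cases h : J.FG
    · obtain ⟨t, ht⟩ := h
      exact ⟨t, ht, fun _ => t.finite_toSet⟩
    · exact ⟨J, Ideal.span_eq J, fun h' => absurd h' h⟩
  refine ⟨⨆ x : s, content e x.1 (n x.1), fun hJ => ?_, fun R' _ _ => ⟨fun hI x hx => ?_, fun h => ?_⟩⟩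
  · haveI := (hsfin hJ).to_subtype
    exact Submodule.fg_iSup _ fun x => fg_content e x.1 (n x.1)
  · rw [← hs] at hx
    have key : J ≤ RingHom.ker (Algebra.TensorProduct.includeRight : B →ₐ[R] R' ⊗[R] B).toRingHom := by
      rw [← hs, Ideal.span_le]
      intro y hy
      change (1 : R') ⊗ₜ[R] y = 0
      refine hn y (n y) le_rfl R' ?_
      set a := content e y (n y)
      have ha : ∀ c ∈ a, algebraMap R R' c = 0 := fun c hc =>
        hI (Submodule.mem_iSup_of_mem (⟨y, hy⟩ : s) hc)
      obtain ⟨p, hp, q, hq, hpq⟩ := Submodule.mem_sup.mp (mem_content_sup e y (n y))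
      have h2 : (Ideal.Quotient.mk (RingHom.ker e ^ (n y + 1))) y =
          Ideal.Quotient.mk _ p := by
        refine (congrArg _ hpq).symm.trans ?_
        rw [map_add, Ideal.Quotient.eq_zero_iff_mem.mpr hq, add_zero]
      rw [h2]
      have h3 : (a.map (algebraMap R B)) ≤ RingHom.ker ((Algebra.TensorProduct.includeRight :
          (B ⧸ RingHom.ker e ^ (n y + 1)) →ₐ[R] R' ⊗[R] _).toRingHom.comp (Ideal.Quotient.mk _)) := by
        rw [Ideal.map_le_iff_le_comap]
        intro c hc
        change (1 : R') ⊗ₜ[R] (algebraMap R (B ⧸ RingHom.ker e ^ (n y + 1)) c) = 0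
        rw [Algebra.algebraMap_eq_smul_one, TensorProduct.tmul_smul, ← algebraMap_smul R' c, ha c hc, zero_smul]
      exact h3 hp
    exact key (hs ▸ hx)
  · refine iSup_le fun x => ?_
    rintro _ ⟨φ, rfl⟩
    let Ψ : B →ₗ[R] R := φ ∘ₗ (Ideal.Quotient.mkₐ R _).toLinearMap
    have h0 := congrArg (TensorProduct.lift ((LinearMap.lsmul R' R').restrictScalars₁₂ R R))
      (congrArg ((Algebra.linearMap R R' ∘ₗ Ψ).lTensor R') (h x.1 (hs ▸ Ideal.subset_span x.2)))
    simp only [map_zero, LinearMap.lTensor_tmul, TensorProduct.lift.tmul] at h0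
    change (1 : R') * algebraMap R R' (Ψ x.1) = 0 at h0
    rw [one_mul] at h0
    exact h0

end Groth.Agent.DiagRig.WeilLocus
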