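import Groth.Agent.DiagRig.WeilLocus.Exists

/-!
# The landing locus is a closed subscheme, of finite presentation if the subscheme is
-/

universe u

open CategoryTheory Limits AlgebraicGeometry

noncomputable section

namespace Groth.Agent.DiagRig.WeilLocus

variable {S X Y : Scheme.{u}} (f : X ⟶ S) [Smooth f] (y : Y ⟶ X) [IsClosedImmersion y]

theorem exists_closed_lands (hconn : ∀ s : S, ConnectedSpace ↥(pullback f (Red.geomPt s))) :
    ∃ (T : Scheme.{u}) (t : T ⟶ S), IsClosedImmersion t ∧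
      (∀ (S' : Scheme.{u}) (g : S' ⟶ S), (∃ g' : S' ⟶ T, g' ≫ t = g) ↔ Lands f y g) ∧
      (LocallyOfFinitePresentation y → LocallyOfFinitePresentation t) := by
  have hgood : GrpScheme.ClosedRep.IsGood (Lands f y) :=
    { comp := fun c x hx => hx.comp c
      glue := fun 𝒰 x hx => Lands.of_pointwise x fun p => by
        obtain ⟨i, z, hz⟩ := 𝒰.exists_eq p
        exact ⟨_, 𝒰.f i, inferInstance, ⟨z, hz⟩, hx i⟩ }
  obtain ⟨Z, t, ht, hZ⟩ := GrpScheme.ClosedRep.exists_closed hgood fun U s hs => by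
    obtain ⟨g, hsg, I, -, hI⟩ := exists_isRep f y hconn U s hs
    exact ⟨g, hsg, I, hI⟩
  refine ⟨Z, t, ht, fun S' g => (hZ S' g).symm, fun hy => ?_⟩
  have key : ∀ s : S, ∃ U : S.affineOpens, s ∈ U.1 ∧ LocallyOfFinitePresentation (t ∣_ U.1) := by
    intro s
    obtain ⟨V, hV, hsV, -⟩ := exists_isAffineOpen_mem_and_subset (X := S) (x := s) (U := ⊤) trivial
    obtain ⟨g, hsg, I, hIfg, hI⟩ := exists_isRep f y hconn ⟨V, hV⟩ s hsV
    obtain ⟨⟨U, hU⟩, hDU⟩ : ∃ D : S.affineOpens, D = S.affineBasicOpen g := ⟨_, rfl⟩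
    refine ⟨⟨U, hU⟩, by rw [hDU]; exact hsg, ?_⟩
    obtain ⟨I, hIfg, hI⟩ : ∃ I : Ideal Γ(S, U), (LocallyOfFinitePresentation y → I.FG) ∧
        ∀ (C : CommRingCat.{u}) (φ : Γ(S, U) ⟶ C),
          Lands f y (Spec.map φ ≫ hU.fromSpec) ↔ I ≤ RingHom.ker φ.hom := by
      cases hDU
      exact ⟨I, hIfg, hI⟩
    obtain ⟨I₁, iso, hiso⟩ := IsClosedImmersion.Spec_iff.mp
      (inferInstance : IsClosedImmersion (pullback.fst hU.fromSpec t))
    have h1 : I₁ = I := GrpScheme.ClosedRep.eq_of_forall_ker (A := Γ(S, U)) fun D ψ => by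
      rw [← hI D ψ, hZ]
      refine ⟨fun h => ?_, fun ⟨l, hl⟩ => ?_⟩
      · let k : CommRingCat.of (Γ(S, U) ⧸ I₁) ⟶ D :=
          CommRingCat.ofHom (Ideal.Quotient.lift I₁ ψ.hom fun a ha => h ha)
        refine ⟨Spec.map k ≫ iso.inv ≫ pullback.snd hU.fromSpec t, ?_⟩
        rw [Category.assoc, Category.assoc, ← pullback.condition, hiso, Category.assoc, Iso.inv_hom_id_assoc,
          ← Spec.map_comp_assoc]
        rfl
      · let m := pullback.lift (Spec.map ψ) l hl.symm ≫ iso.hom
        have hm : m ≫ Spec.map (CommRingCat.ofHom (Ideal.Quotient.mk I₁)) = Spec.map ψ := by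
          rw [Category.assoc, ← hiso, pullback.lift_fst]
        rw [← Spec.map_preimage m, ← Spec.map_comp] at hm
        intro a ha
        rw [RingHom.mem_ker, ← Spec.map_injective hm]
        show (Spec.preimage m).hom (Ideal.Quotient.mk I₁ a) = 0
        rw [Ideal.Quotient.eq_zero_iff_mem.mpr ha, map_zero]
    have h2 : LocallyOfFinitePresentation (Spec.map (CommRingCat.ofHom (Ideal.Quotient.mk I₁))) := by
      refine (HasRingHomProperty.Spec_iff (P := @LocallyOfFinitePresentation)).mpr ?_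
      have : Algebra.FinitePresentation Γ(S, U) (Γ(S, U) ⧸ I₁) :=
        .quotient (h1 ▸ hIfg hy)
      exact RingHom.finitePresentation_algebraMap.mpr this
    have h3 : LocallyOfFinitePresentation (pullback.fst hU.fromSpec t) := by rw [hiso]; infer_instance
    have h5 : LocallyOfFinitePresentation (pullback.snd t hU.fromSpec) := by
      rw [← pullbackSymmetry_hom_comp_fst]
      infer_instance
    have h6 : ∀ b, b = hU.isoSpec.hom ≫ hU.fromSpec → LocallyOfFinitePresentation (pullback.snd t b) := by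
      rintro _ rfl
      rw [← pullbackLeftPullbackSndIso_inv_snd_snd t hU.fromSpec hU.isoSpec.hom]
      infer_instance
    rw [← MorphismProperty.cancel_left_of_respectsIso (P := @LocallyOfFinitePresentation)
      (pullbackRestrictIsoRestrict t U).hom, pullbackRestrictIsoRestrict_hom_morphismRestrict]
    exact h6 _ hU.isoSpec_hom_fromSpec.symm
  choose U hxU hU using key
  exact IsZariskiLocalAtTarget.of_iSup_eq_top (fun x => (U x).1) (top_le_iff.mp fun x _ =>
    TopologicalSpace.Opens.mem_iSup.mpr ⟨x, hxU x⟩) hU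

end Groth.Agent.DiagRig.WeilLocus
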