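import Groth.Agent.DiagRig.WeilLocus.Rep
import Groth.Agent.GrpScheme.ClosedRep

/-!
# The landing locus of a smooth morphism with connected fibres is a closed subscheme
-/

universe u

open CategoryTheory Limits AlgebraicGeometry
open scoped TensorProduct

noncomputable section

namespace Groth.Agent.DiagRig.WeilLocus

variable {S X Y : Scheme.{u}} (f : X ⟶ S) (y : Y ⟶ X) [IsClosedImmersion y]

/-- An ideal describing the locus over a faithfully flat algebra descends. -/
theorem exists_ideal_descend {A A' : Type u} [CommRing A] [CommRing A'] [Algebra A A'] [Module.FaithfullyFlat A A']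
    (a : Spec (CommRingCat.of A) ⟶ S) (I : Ideal A')
    (hI : ∀ (C : CommRingCat.{u}) (φ : CommRingCat.of A' ⟶ C),
      Lands f y (Spec.map φ ≫ Spec.map (CommRingCat.ofHom (algebraMap A A')) ≫ a) ↔ I ≤ RingHom.ker φ.hom) :
    ∃ I₀ : Ideal A, (I.FG → I₀.FG) ∧ ∀ (C : CommRingCat.{u}) (φ : CommRingCat.of A ⟶ C),
      Lands f y (Spec.map φ ≫ a) ↔ I₀ ≤ RingHom.ker φ.hom := by
  classical
  let B : PUnit.{u + 1} → Type u := fun _ => A'
  let D := (A' ⧸ I) ⊗[A] A'
  have compat : ∀ x ∈ I, (1 : A' ⧸ I) ⊗ₜ[A] x = (0 : D) := by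
    intro x hx
    let φr : CommRingCat.of A' ⟶ CommRingCat.of D :=
      CommRingCat.ofHom (Algebra.TensorProduct.includeRight : A' →ₐ[A] D).toRingHom
    let φl : CommRingCat.of A' ⟶ CommRingCat.of D :=
      CommRingCat.ofHom ((Algebra.TensorProduct.includeLeftRingHom : (A' ⧸ I) →+* D).comp (Ideal.Quotient.mk I))
    have hl := (hI _ φl).mpr fun z hz => by
      show Algebra.TensorProduct.includeLeftRingHom (Ideal.Quotient.mk I z) = (0 : D)
      rw [Ideal.Quotient.eq_zero_iff_mem.mpr hz, map_zero]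
    have e : CommRingCat.ofHom (algebraMap A A') ≫ φl = CommRingCat.ofHom (algebraMap A A') ≫ φr := by
      ext r
      show φl (algebraMap A A' r) = Algebra.TensorProduct.includeRight (algebraMap A A' r)
      rw [AlgHom.commutes]
      rfl
    rw [← Spec.map_comp_assoc, e, Spec.map_comp_assoc] at hl
    exact (hI _ φr).mp hl hx
  let I' : Ideal A := ⨅ _ : PUnit.{u + 1}, I.comap (algebraMap A A')
  have hImap : I ≤ I'.map (algebraMap A A') :=
    le_map_of_compatible B (fun _ => I) (fun _ _ => compat) PUnit.unit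
  obtain ⟨I₀, hI₀le, hI₀fg, hI₀map⟩ : ∃ I₀ : Ideal A, I₀ ≤ I' ∧ (I.FG → I₀.FG) ∧ I ≤ I₀.map (algebraMap A A') := by
    by_cases hfg : I.FG
    · obtain ⟨t, ht⟩ := hfg
      have hmem : ∀ x : t, ∃ u : Finset A', (u : Set A') ⊆ algebraMap A A' '' (I' : Set A) ∧
          x.1 ∈ Submodule.span A' (u : Set A') := fun x =>
        Submodule.mem_span_finite_of_mem_span
          (show x.1 ∈ Submodule.span A' (algebraMap A A' '' (I' : Set A)) from hImap (ht ▸ Ideal.subset_span x.2))
      choose u hu hxu using hmem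
      obtain ⟨v, hv, hvu⟩ : ∃ v : Finset A, (v : Set A) ⊆ I' ∧
          ((Finset.univ.biUnion u : Finset A') : Set A') = algebraMap A A' '' (v : Set A) := by
        have : ((Finset.univ.biUnion u : Finset A') : Set A') ⊆ algebraMap A A' '' (I' : Set A) := fun z hz => by
          obtain ⟨x, -, hzx⟩ := Finset.mem_biUnion.mp hz
          exact hu x hzx
        obtain ⟨v, hv, hve⟩ := Finset.subset_set_image_iff.mp this
        exact ⟨v, hv, by rw [← hve, Finset.coe_image]⟩
      refine ⟨Ideal.span v, Ideal.span_le.mpr hv, fun _ => ⟨v, rfl⟩, ?_⟩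
      rw [← ht, Ideal.span_le, Ideal.map_span, ← hvu]
      intro x hx
      exact Submodule.span_mono (fun z hz => Finset.mem_biUnion.mpr ⟨⟨x, hx⟩, Finset.mem_univ _, hz⟩) (hxu ⟨x, hx⟩)
    · exact ⟨I', le_rfl, fun h => absurd h hfg, hImap⟩
  refine ⟨I₀, hI₀fg, fun C φ => ?_⟩
  let _ : Algebra A C := φ.hom.toAlgebra
  let k : CommRingCat.of A' ⟶ CommRingCat.of (C ⊗[A] A') :=
    CommRingCat.ofHom (Algebra.TensorProduct.includeRight : A' →ₐ[A] C ⊗[A] A').toRingHom
  let c : Spec (CommRingCat.of (C ⊗[A] A')) ⟶ Spec C := Spec.map (CommRingCat.ofHom (algebraMap C (C ⊗[A] A')))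
  have ek : Spec.map k ≫ Spec.map (CommRingCat.ofHom (algebraMap A A')) = c ≫ Spec.map φ := by
    rw [← Spec.map_comp, ← Spec.map_comp]
    congr 1
    ext r
    exact ((Algebra.TensorProduct.includeRight : A' →ₐ[A] C ⊗[A] A').commutes r).trans
      (IsScalarTower.algebraMap_apply A C (C ⊗[A] A') r)
  refine ⟨fun h r hr => ?_, fun h => ?_⟩
  · rw [RingHom.mem_ker]
    refine FaithfulSMul.algebraMap_injective C (C ⊗[A] A') ?_
    rw [map_zero]
    have h1 : Lands f y (Spec.map k ≫ Spec.map (CommRingCat.ofHom (algebraMap A A')) ≫ a) := by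
      rw [reassoc_of% ek]
      exact h.comp c
    have h2 : k (algebraMap A A' r) = 0 :=
      (hI _ k).mp h1 ((Submodule.mem_iInf _).mp (hI₀le hr) PUnit.unit)
    exact (congr(($((IsScalarTower.algebraMap_eq A C (C ⊗[A] A'))) : A → C ⊗[A] A') r)).symm.trans
      (((Algebra.TensorProduct.includeRight : A' →ₐ[A] C ⊗[A] A').commutes r).symm.trans h2)
  · refine Lands.of_pointwise _ fun t => ?_
    obtain ⟨t', ht'⟩ := PrimeSpectrum.comap_surjective_of_faithfullyFlat (A := C) (B := C ⊗[A] A') t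
    refine ⟨_, c, ?_, ⟨t', ht'⟩, ?_⟩
    · exact (HasRingHomProperty.Spec_iff (P := @Flat)).mpr (RingHom.flat_algebraMap_iff.mpr inferInstance)
    · rw [← reassoc_of% ek]
      refine (hI _ k).mpr (hI₀map.trans ?_)
      rw [Ideal.map_le_iff_le_comap]
      intro r hr
      show Algebra.TensorProduct.includeRight (algebraMap A A' r) = (0 : C ⊗[A] A')
      rw [AlgHom.commutes, IsScalarTower.algebraMap_apply A C (C ⊗[A] A'), show algebraMap A C r = 0 from h hr,
        map_zero]

variable [Smooth f]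

omit [IsClosedImmersion y] in
/-- Around every point there are a flat affine chart with a section. -/
theorem exists_chart (hconn : ∀ s : S, ConnectedSpace ↥(pullback f (Red.geomPt s))) (U : S.affineOpens) (s : S)
    (hs : s ∈ U.1) :
    ∃ (R B : Type u) (_ : CommRing R) (_ : CommRing B) (_ : Algebra R B) (a : Spec (CommRingCat.of B) ⟶ X)
      (q : Spec (CommRingCat.of R) ⟶ S) (hw : a ≫ f = Spec.map (CommRingCat.ofHom (algebraMap R B)) ≫ q)
      (_ : IsOpenImmersion (pullback.lift a (Spec.map (CommRingCat.ofHom (algebraMap R B))) hw)) (_ : B →ₐ[R] R),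
      Etale q ∧ (∃ r, q r = s) ∧ Set.range q ⊆ U.1 := by
  have := irreducibleSpace_geom f hconn _ (Red.geomPt s)
  obtain ⟨z⟩ := (inferInstance : Nonempty ↥(pullback f (Red.geomPt s)))
  let x := pullback.fst f (Red.geomPt s) z
  have hx : f x = s := by
    show f (pullback.fst f (Red.geomPt s) z) = s
    rw [← Scheme.Hom.comp_apply, pullback.condition, Scheme.Hom.comp_apply]
    show (Spec.map _ ≫ S.fromSpecResidueField s) _ = s
    rw [Scheme.Hom.comp_apply]
    exact Scheme.fromSpecResidueField_apply _ _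
  obtain ⟨S', g, s', hg, hgs, h, hh⟩ := AlgSpCov.exists_etale_section f x
  obtain ⟨W, hW, hsW, hWU⟩ := exists_isAffineOpen_mem_and_subset (X := S') (x := s') (U := g ⁻¹ᵁ U.1)
    (show g s' ∈ U.1 by rw [hgs, hx]; exact hs)
  let R₀ : Type u := Γ(S', W)
  let q₀ : Spec (CommRingCat.of R₀) ⟶ S := hW.fromSpec ≫ g
  let P := pullback f q₀
  let σ : Spec (CommRingCat.of R₀) ⟶ P := pullback.lift (hW.fromSpec ≫ h) (𝟙 _)
    (by rw [Category.assoc, hh, Category.id_comp])
  obtain ⟨w, hw'⟩ : s' ∈ Set.range hW.fromSpec := by rw [hW.range_fromSpec]; exact hsW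
  obtain ⟨O, hO, hwO, -⟩ := exists_isAffineOpen_mem_and_subset (X := P) (x := σ w) (U := ⊤) trivial
  let B₀ : Type u := Γ(P, O)
  let j₀ : Spec (CommRingCat.of B₀) ⟶ P := hO.fromSpec
  let _ : Algebra R₀ B₀ := (Spec.preimage (j₀ ≫ pullback.snd f q₀)).hom.toAlgebra
  have hj₀snd : j₀ ≫ pullback.snd f q₀ = Spec.map (CommRingCat.ofHom (algebraMap R₀ B₀)) :=
    (Spec.map_preimage _).symm
  have hw₀ : (j₀ ≫ pullback.fst f q₀) ≫ f = Spec.map (CommRingCat.ofHom (algebraMap R₀ B₀)) ≫ q₀ := by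
    rw [← hj₀snd, Category.assoc, Category.assoc, pullback.condition]
  have hlift₀ : pullback.lift _ _ hw₀ = j₀ := by
    ext1
    · rw [pullback.lift_fst]
    · rw [pullback.lift_snd, hj₀snd]
  have hj₀ : IsOpenImmersion (pullback.lift _ _ hw₀) := by rw [hlift₀]; exact IsAffineOpen.isOpenImmersion_fromSpec hO
  obtain ⟨_, ⟨r, rfl⟩, hwr, hrO⟩ := PrimeSpectrum.isTopologicalBasis_basic_opens.exists_subset_of_mem_open
    (show w ∈ σ ⁻¹' (O : Set P) from hwO) (O.2.preimage σ.continuous)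
  let R := Localization.Away r
  let i : Spec (CommRingCat.of R) ⟶ Spec (CommRingCat.of R₀) := Spec.map (CommRingCat.ofHom (algebraMap R₀ R))
  have : IsOpenImmersion i := IsOpenImmersion.of_isLocalization r
  have hi : Set.range i ⊆ σ ⁻¹' (O : Set P) := fun _ ⟨z, hz⟩ => hrO (hz ▸
    (PrimeSpectrum.localization_away_comap_range R r).le ⟨z, rfl⟩)
  have : IsOpenImmersion j₀ := IsAffineOpen.isOpenImmersion_fromSpec hO
  let τ : Spec (CommRingCat.of R) ⟶ Spec (CommRingCat.of B₀) := IsOpenImmersion.lift j₀ (i ≫ σ) (by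
    rintro _ ⟨z, rfl⟩
    show (i ≫ σ) z ∈ Set.range hO.fromSpec
    rw [hO.range_fromSpec]
    exact hi ⟨z, rfl⟩)
  have hτ : CommRingCat.ofHom (algebraMap R₀ B₀) ≫ Spec.preimage τ = CommRingCat.ofHom (algebraMap R₀ R) := by
    apply Spec.map_injective
    rw [Spec.map_comp, Spec.map_preimage, ← hj₀snd, IsOpenImmersion.lift_fac_assoc, Category.assoc, pullback.lift_snd,
      Category.comp_id]
  let ψ : B₀ →ₐ[R₀] R := { (Spec.preimage τ).hom with commutes' := fun z => congr(($hτ).hom z) }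
  let e : R ⊗[R₀] B₀ →ₐ[R] R := Algebra.TensorProduct.lift (AlgHom.id R R) ψ fun _ _ => Commute.all _ _
  refine ⟨R, R ⊗[R₀] B₀, inferInstance, inferInstance, inferInstance,
    Spec.map (CommRingCat.ofHom (Algebra.TensorProduct.includeRight : B₀ →ₐ[R₀] R ⊗[R₀] B₀).toRingHom) ≫
      j₀ ≫ pullback.fst f q₀, i ≫ q₀, ?_, ?_, e, ?_, ?_, ?_⟩
  · exact (show _ = chartMap (j₀ ≫ pullback.fst f q₀) q₀ hw₀ R ≫ pullback.fst _ _ ≫ f by
      rw [← Category.assoc (chartMap _ _ _ _), chartMap_fst]).trans (by rw [pullback.condition, ← Category.assoc, chartMap_snd])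
  · exact isOpenImmersion_chartMap (j₀ ≫ pullback.fst f q₀) q₀ hw₀ R hj₀
  · have : Etale g := hg
    infer_instance
  · obtain ⟨r', hr'⟩ := (PrimeSpectrum.localization_away_comap_range R r).ge hwr
    refine ⟨r', ?_⟩
    rw [Scheme.Hom.comp_apply, show i r' = w from hr', Scheme.Hom.comp_apply, hw', hgs, hx]
  · rintro _ ⟨z, rfl⟩
    have : hW.fromSpec (i z) ∈ W := by
      have h1 := hW.range_fromSpec
      exact h1.le ⟨i z, rfl⟩
    exact hWU this

/-- The locus is given by an ideal near every point. -/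
theorem exists_isRep (hconn : ∀ s : S, ConnectedSpace ↥(pullback f (Red.geomPt s))) (U : S.affineOpens) (s : S)
    (hs : s ∈ U.1) : ∃ g : Γ(S, U), s ∈ S.basicOpen g ∧ ∃ I₀ : Ideal Γ(S, S.affineBasicOpen g),
      (LocallyOfFinitePresentation y → I₀.FG) ∧ ∀ (C : CommRingCat.{u}) (φ : Γ(S, S.affineBasicOpen g) ⟶ C),
        Lands f y (Spec.map φ ≫ (S.affineBasicOpen g).2.fromSpec) ↔ I₀ ≤ RingHom.ker φ.hom := by
  obtain ⟨R, B, _, _, _, a, q, hw, hj, e, hq, ⟨r₀, hr₀⟩, hqU⟩ := exists_chart f hconn U s hs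
  obtain ⟨I, hIfg, hI⟩ := exists_ideal_of_chart y hconn a q hw hj e
  let V : S.Opens := ⟨Set.range q, q.isOpenMap.isOpen_range⟩
  obtain ⟨g, hgV, hsg⟩ := U.2.exists_basicOpen_le (V := V) ⟨s, ⟨r₀, hr₀⟩⟩ hs
  refine ⟨g, hsg, ?_⟩
  let D := S.affineBasicOpen g
  let A : Type u := Γ(S, D)
  let d : Spec (CommRingCat.of A) ⟶ S := D.2.fromSpec
  -- everything is affine over `U`
  let A₀ : Type u := Γ(S, U)
  have hU' : IsOpenImmersion U.2.fromSpec := IsAffineOpen.isOpenImmersion_fromSpec U.2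
  let qU : Spec (CommRingCat.of R) ⟶ Spec (CommRingCat.of A₀) :=
    IsOpenImmersion.lift U.2.fromSpec q (by rw [U.2.range_fromSpec]; exact hqU)
  let _ : Algebra A₀ R := (Spec.preimage qU).hom.toAlgebra
  let _ : Algebra A₀ A := (S.presheaf.map (homOfLE (S.basicOpen_le g)).op).hom.toAlgebra
  have hdU : Spec.map (CommRingCat.ofHom (algebraMap A₀ A)) ≫ U.2.fromSpec = d :=
    U.2.map_fromSpec D.2 (homOfLE (S.basicOpen_le g)).op
  have hqU' : Spec.map (CommRingCat.ofHom (algebraMap A₀ R)) ≫ U.2.fromSpec = q := by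
    rw [show CommRingCat.ofHom (algebraMap A₀ R) = Spec.preimage qU from rfl, Spec.map_preimage]
    exact IsOpenImmersion.lift_fac _ _ _
  let A' := A ⊗[A₀] R
  have hqflat : Module.Flat A₀ R := by
    have : Flat q := inferInstance
    rw [← hqU'] at this
    have h1 : Flat (Spec.map (CommRingCat.ofHom (algebraMap A₀ R))) := by
      have h2 : Flat (Spec.map (CommRingCat.ofHom (algebraMap A₀ R)) ≫ U.2.fromSpec) := this
      exact MorphismProperty.of_postcomp (W := @Flat) (W' := @IsOpenImmersion) _ _ hU' h2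
    exact RingHom.flat_algebraMap_iff.mp ((HasRingHomProperty.Spec_iff (P := @Flat)).mp h1)
  have : Module.FaithfullyFlat A A' := Module.FaithfullyFlat.of_comap_surjective fun c => by
    obtain ⟨r, hr⟩ := hgV (show d c ∈ S.basicOpen g from D.2.range_fromSpec.le ⟨c, rfl⟩)
    obtain ⟨v, hv, -⟩ := Scheme.Pullback.exists_preimage_pullback
      (f := Spec.map (CommRingCat.ofHom (algebraMap A₀ A))) (g := Spec.map (CommRingCat.ofHom (algebraMap A₀ R))) c r (by
        apply U.2.fromSpec.isOpenEmbedding.injective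
        rw [← Scheme.Hom.comp_apply, ← Scheme.Hom.comp_apply, hdU, hqU']
        exact hr.symm)
    refine ⟨(pullbackSpecIso A₀ A R).hom v, ?_⟩
    rw [← hv]
    exact congr($(pullbackSpecIso_hom_fst A₀ A R).base v)
  let incl : CommRingCat.of R ⟶ CommRingCat.of A' :=
    CommRingCat.ofHom (Algebra.TensorProduct.includeRight : R →ₐ[A₀] A').toRingHom
  have hsq : Spec.map (CommRingCat.ofHom (algebraMap A A')) ≫ d = Spec.map incl ≫ q := by
    rw [← hdU, ← hqU', ← Spec.map_comp_assoc, ← Spec.map_comp_assoc]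
    congr 2
    ext z
    exact (IsScalarTower.algebraMap_apply A₀ A A' z).symm.trans
      ((Algebra.TensorProduct.includeRight : R →ₐ[A₀] A').commutes z).symm
  obtain ⟨I₀, hI₀fg, hI₀⟩ := exists_ideal_descend f y d (I.map incl.hom) fun C φ => by
    rw [hsq, ← Spec.map_comp_assoc, hI, Ideal.map_le_iff_le_comap]
    rfl
  exact ⟨I₀, fun h => hI₀fg ((hIfg h).map _), hI₀⟩

end Groth.Agent.DiagRig.WeilLocus
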