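import Groth.Agent.DiagRig.WeilLocus.Closed
import Groth.Agent.S12104

/-!
# Points whose whole translate family lands in a closed subscheme
-/

universe u

open CategoryTheory MonoidalCategory CartesianMonoidalCategory AlgebraicGeometry Limits

noncomputable section

set_option backward.isDefEq.respectTransparency.types false

namespace Groth.Agent.DiagRig.WeilLocus

variable {S : Scheme.{u}}

/-- For `Y` smooth with connected geometric fibres the points `g` of `G` such that `δ (g, a)` lies in `K`
for all `a` form a closed subscheme. -/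
theorem exists_closed_forall {G Y W K : Over S} [Smooth Y.hom]
    (hconn : ∀ s : S, ConnectedSpace ↥(pullback Y.hom (Red.geomPt s)))
    (δ : G ⊗ Y ⟶ W) (j : K ⟶ W) [IsClosedImmersion j.left] :
    ∃ (T : Over S) (t : T ⟶ G), IsClosedImmersion t.left ∧
      (LocallyOfFinitePresentation j.left → LocallyOfFinitePresentation t.left) ∧
      ∀ (X : Over S) (g : X ⟶ G), (∃ x : X ⟶ T, x ≫ t = g) ↔
        ∀ (X' : Over S) (x : X' ⟶ X) (a : X' ⟶ Y), ∃ κ : X' ⟶ K, κ ≫ j = lift (x ≫ g) a ≫ δ := by
  have := S12104.geometricallyConnected_of_geomPt Y.hom hconn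
  let f := (fst G Y).left
  have : Smooth f := inferInstanceAs (Smooth (pullback.fst G.hom Y.hom))
  have hf : GeometricallyConnected f := inferInstanceAs (GeometricallyConnected (pullback.fst G.hom Y.hom))
  let y : pullback δ.left j.left ⟶ (G ⊗ Y).left := pullback.fst δ.left j.left
  have : IsClosedImmersion y := MorphismProperty.pullback_fst (P := @IsClosedImmersion) _ _ ‹_›
  obtain ⟨Z, i, hi, hZ, hlfp⟩ := exists_closed_lands f y fun s =>
    hf.geometrically_connectedSpace _ _ _ (.of_hasPullback _ _)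
  refine ⟨Over.mk (i ≫ G.hom), Over.homMk i rfl, hi,
    fun hj => hlfp (MorphismProperty.pullback_fst (P := @LocallyOfFinitePresentation) _ _ hj), fun X g => ?_⟩
  have h0 : (∃ x : X ⟶ Over.mk (i ≫ G.hom), x ≫ Over.homMk i rfl = g) ↔ Lands f y g.left := by
    rw [← hZ]
    refine ⟨fun ⟨z, hz⟩ => ⟨z.left, congrArg CommaMorphism.left hz⟩,
      fun ⟨z, hz⟩ => ⟨Over.homMk z ?_, Over.OverMorphism.ext hz⟩⟩
    show z ≫ i ≫ G.hom = X.hom
    rw [reassoc_of% hz, Over.w]
  rw [h0]
  refine ⟨fun ⟨l, hl⟩ X' x a => ?_, fun h => ?_⟩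
  · have e : (lift (x ≫ g) a).left ≫ f = x.left ≫ g.left := by
      show (lift (x ≫ g) a ≫ fst G Y).left = _
      rw [lift_fst]
      rfl
    let w : X'.left ⟶ pullback f g.left := pullback.lift (lift (x ≫ g) a).left x.left e
    have h1 : (w ≫ l ≫ pullback.snd δ.left j.left) ≫ j.left = (lift (x ≫ g) a ≫ δ).left := by
      rw [Category.assoc, Category.assoc, ← pullback.condition, ← Category.assoc l]
      show w ≫ (l ≫ y) ≫ δ.left = _
      rw [hl, pullback.lift_fst_assoc]
      rfl
    refine ⟨Over.homMk (w ≫ l ≫ pullback.snd δ.left j.left) ?_, Over.OverMorphism.ext h1⟩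
    rw [← Over.w j, ← Category.assoc, h1]
    exact Over.w (lift (x ≫ g) a ≫ δ)
  · let P : Over S := Over.mk (pullback.snd f g.left ≫ X.hom)
    let x : P ⟶ X := Over.homMk (pullback.snd f g.left) rfl
    let p : P ⟶ G ⊗ Y := Over.homMk (pullback.fst f g.left) (by
      show pullback.fst f g.left ≫ (G ⊗ Y).hom = pullback.snd f g.left ≫ X.hom
      rw [← Over.w (fst G Y), ← Over.w g, pullback.condition_assoc])
    obtain ⟨κ, hκ⟩ := h P x (p ≫ snd G Y)
    have e : lift (x ≫ g) (p ≫ snd G Y) = p := by
      refine CartesianMonoidalCategory.hom_ext _ _ ?_ ?_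
      · rw [lift_fst]
        exact Over.OverMorphism.ext (pullback.condition (f := f) (g := g.left)).symm
      · rw [lift_snd]
    rw [e] at hκ
    exact ⟨pullback.lift (pullback.fst f g.left) κ.left (congrArg CommaMorphism.left hκ).symm,
      pullback.lift_fst _ _ _⟩

end Groth.Agent.DiagRig.WeilLocus
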