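import Groth.Agent.DiagRig.WeilLocus.Alg
import Groth.Agent.DiagRig.WeilLocus.Basic
import Groth.Agent.DiagRig.EqLocus
import Groth.Agent.AlgSpCov.EtaleSections

/-!
# The locus where a smooth morphism with connected fibres lands in a closed subscheme, on a chart
-/

universe u

open CategoryTheory Limits AlgebraicGeometry
open scoped TensorProduct

noncomputable section

namespace Groth.Agent.DiagRig.WeilLocus

variable {S X Y : Scheme.{u}} {f : X ⟶ S}

theorem smooth_of_chart [Smooth f] {R B : Type u} [CommRing R] [CommRing B] [Algebra R B]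
    (a : Spec (CommRingCat.of B) ⟶ X) (q : Spec (CommRingCat.of R) ⟶ S)
    (hw : a ≫ f = Spec.map (CommRingCat.ofHom (algebraMap R B)) ≫ q)
    (hj : IsOpenImmersion (pullback.lift a (Spec.map (CommRingCat.ofHom (algebraMap R B))) hw)) :
    Algebra.Smooth R B := by
  have h : Smooth (Spec.map (CommRingCat.ofHom (algebraMap R B))) := by
    rw [← pullback.lift_snd a (Spec.map (CommRingCat.ofHom (algebraMap R B))) hw]
    infer_instance
  exact RingHom.smooth_algebraMap.mp ((HasRingHomProperty.Spec_iff (P := @Smooth)).mp h)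

/-- The points over a point of the base in a base change form an irreducible set. -/
theorem isIrreducible_preimage [Smooth f] (hconn : ∀ s : S, ConnectedSpace ↥(pullback f (Red.geomPt s)))
    {T : Scheme.{u}} (q : T ⟶ S) (t : T) : IsIrreducible ((pullback.snd f q) ⁻¹' {t}) := by
  let gp := Red.geomPt t
  have := irreducibleSpace_geom f hconn _ (gp ≫ q)
  let i : pullback (pullback.snd f q) gp ≅ pullback f (gp ≫ q) := pullbackLeftPullbackSndIso f q gp
  have hr : Set.range (pullback.fst (pullback.snd f q) gp) = (pullback.snd f q) ⁻¹' {t} := by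
    rw [Scheme.Pullback.range_fst]
    congr 1
    refine Set.eq_singleton_iff_nonempty_unique_mem.2 ⟨Set.range_nonempty _, ?_⟩
    rintro _ ⟨z, rfl⟩
    show (Red.geomPt t) z = t
    rw [Red.geomPt, Scheme.Hom.comp_apply]
    exact Scheme.fromSpecResidueField_apply _ _
  have hh : Set.range (i.inv ≫ pullback.fst (pullback.snd f q) gp) = (pullback.snd f q) ⁻¹' {t} := by
    rw [← hr]
    refine Set.Subset.antisymm (fun _ ⟨z, hz⟩ => ⟨i.inv z, by rw [← Scheme.Hom.comp_apply]; exact hz⟩) ?_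
    rintro _ ⟨z, rfl⟩
    exact ⟨i.hom z, by rw [← Scheme.Hom.comp_apply, Iso.hom_inv_id_assoc]⟩
  rw [← hh, ← Set.image_univ]
  exact (IrreducibleSpace.isIrreducible_univ _).image _
    (i.inv ≫ pullback.fst (pullback.snd f q) gp).continuous.continuousOn

/-- An element killed on an open piece with a section over a flat extension dies after that extension. -/
theorem eq_zero_of_piece {R B : Type u} [CommRing R] [CommRing B] [Algebra R B] [Algebra.Smooth R B]
    {R₂ : Type u} [CommRing R₂] [Algebra R R₂] (ψ : B →ₐ[R] R₂) (g : B) (hg : IsUnit (ψ g))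
    (hconn : ∀ (K : Type u) [Field K] [Algebra R K], (B →ₐ[R] K) → ConnectedSpace (PrimeSpectrum (K ⊗[R] B)))
    (R' : Type u) [CommRing R'] [Algebra R R'] (x : B) (k : ℕ)
    (hx : ((1 : R') ⊗ₜ[R] g) ^ k * ((1 : R') ⊗ₜ[R] x) = 0) :
    (1 : R₂ ⊗[R] R') ⊗ₜ[R] x = 0 := by
  have hconn₂ : ∀ (K : Type u) [Field K] [IsAlgClosed K] [Algebra R₂ K],
      ConnectedSpace (PrimeSpectrum (K ⊗[R₂] (R₂ ⊗[R] B))) := by
    intro K _ _ _
    let _ : Algebra R K := ((algebraMap R₂ K).comp (algebraMap R R₂)).toAlgebra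
    have : IsScalarTower R R₂ K := IsScalarTower.of_algebraMap_eq' rfl
    have := hconn K ((IsScalarTower.toAlgHom R R₂ K).comp ψ)
    let E : K ⊗[R₂] (R₂ ⊗[R] B) ≃ₐ[K] K ⊗[R] B := Algebra.TensorProduct.cancelBaseChange R R₂ K K B
    let h := PrimeSpectrum.homeomorphOfRingEquiv E.toRingEquiv
    exact h.symm.surjective.connectedSpace h.symm.continuous
  let e₂ : R₂ ⊗[R] B →ₐ[R₂] R₂ := Algebra.TensorProduct.lift (AlgHom.id R₂ R₂) ψ fun _ _ => Commute.all _ _
  have hg₂ : IsUnit (e₂ ((1 : R₂) ⊗ₜ[R] g)) := by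
    rw [Algebra.TensorProduct.lift_tmul]
    simpa using hg
  let E : (R₂ ⊗[R] R') ⊗[R₂] (R₂ ⊗[R] B) ≃ₐ[R₂] (R₂ ⊗[R] R') ⊗[R] B :=
    Algebra.TensorProduct.cancelBaseChange R R₂ R₂ (R₂ ⊗[R] R') B
  have h0 := congrArg (fun w => E.symm (Algebra.TensorProduct.map
    (Algebra.TensorProduct.includeRight : R' →ₐ[R] R₂ ⊗[R] R') (AlgHom.id R B) w)) hx
  simp only [map_mul, map_pow, map_zero, Algebra.TensorProduct.map_tmul, map_one, AlgHom.id_apply] at h0
  simp only [E, Algebra.TensorProduct.cancelBaseChange_symm_tmul] at h0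
  rw [Algebra.TensorProduct.tmul_pow, one_pow] at h0
  have h1 := eq_zero_of_away hconn₂ e₂ _ hg₂ (R₂ ⊗[R] R') _ k h0
  have h2 := congrArg E h1
  rw [map_zero, Algebra.TensorProduct.cancelBaseChange_tmul, one_smul] at h2
  exact h2

variable (y : Y ⟶ X) [IsClosedImmersion y] [Smooth f]

/-- If the piece at a section lands, so does everything. -/
theorem lands_of_chart (hconn : ∀ s : S, ConnectedSpace ↥(pullback f (Red.geomPt s)))
    {R B : Type u} [CommRing R] [CommRing B] [Algebra R B]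
    (a : Spec (CommRingCat.of B) ⟶ X) (q : Spec (CommRingCat.of R) ⟶ S)
    (hw : a ≫ f = Spec.map (CommRingCat.ofHom (algebraMap R B)) ≫ q)
    (hj : IsOpenImmersion (pullback.lift a (Spec.map (CommRingCat.ofHom (algebraMap R B))) hw))
    (e : B →ₐ[R] R) (R' : Type u) [CommRing R'] [Algebra R R']
    (hU : ∃ l, l ≫ y = Spec.map (CommRingCat.ofHom
      (Algebra.TensorProduct.includeRight : B →ₐ[R] R' ⊗[R] B).toRingHom) ≫ a) :
    Lands f y (Spec.map (CommRingCat.ofHom (algebraMap R R')) ≫ q) := by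
  obtain ⟨lU, hlU⟩ := hU
  refine exists_lift_of_pointwise y _ fun p => ?_
  let P := pullback f q
  let j := pullback.lift a (Spec.map (CommRingCat.ofHom (algebraMap R B))) hw
  obtain ⟨O, hO, hpO, -⟩ := exists_isAffineOpen_mem_and_subset (X := P) (x := down q R' p) (U := ⊤) trivial
  let B' : Type u := Γ(P, O)
  let j' : Spec (CommRingCat.of B') ⟶ P := hO.fromSpec
  let _ : Algebra R B' := (Spec.preimage (j' ≫ pullback.snd f q)).hom.toAlgebra
  have hj'snd : j' ≫ pullback.snd f q = Spec.map (CommRingCat.ofHom (algebraMap R B')) :=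
    (Spec.map_preimage _).symm
  have hw' : (j' ≫ pullback.fst f q) ≫ f = Spec.map (CommRingCat.ofHom (algebraMap R B')) ≫ q := by
    rw [← hj'snd, Category.assoc, Category.assoc, pullback.condition]
  have hlift' : pullback.lift _ _ hw' = j' := by
    ext1
    · rw [pullback.lift_fst]
    · rw [pullback.lift_snd, hj'snd]
  have hj' : IsOpenImmersion (pullback.lift _ _ hw') := by rw [hlift']; exact IsAffineOpen.isOpenImmersion_fromSpec hO
  have := smooth_of_chart _ q hw' hj'
  obtain ⟨b₀, hb₀⟩ : ∃ b₀, (pullback.snd f q) (j b₀) = pullback.snd f q (down q R' p) :=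
    ⟨Spec.map (CommRingCat.ofHom e.toRingHom) (pullback.snd f q (down q R' p)), by
      rw [← Scheme.Hom.comp_apply, ← Scheme.Hom.comp_apply, pullback.lift_snd, ← Spec.map_comp,
        show CommRingCat.ofHom (algebraMap R B) ≫ CommRingCat.ofHom e.toRingHom = 𝟙 _ from
          CommRingCat.hom_ext (RingHom.ext e.commutes), Spec.map_id]
      rfl⟩
  have : IsOpenImmersion j := hj
  obtain ⟨x, hxF, hxO, hxj⟩ := (isIrreducible_preimage hconn q (pullback.snd f q (down q R' p))).2 _ _ O.2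
    j.isOpenEmbedding.isOpen_range ⟨_, rfl, hpO⟩ ⟨j b₀, hb₀, b₀, rfl⟩
  obtain ⟨b', rfl⟩ : x ∈ Set.range j' := by
    show x ∈ Set.range hO.fromSpec
    rw [hO.range_fromSpec]
    exact hxO
  replace hxF : (pullback.snd f q) (j' b') = pullback.snd f q (down q R' p) := hxF
  obtain ⟨_, ⟨g, rfl⟩, hbg, hgj⟩ := PrimeSpectrum.isTopologicalBasis_basic_opens.exists_subset_of_mem_open
    (show b' ∈ j' ⁻¹' Set.range j from hxj) (j.isOpenEmbedding.isOpen_range.preimage j'.continuous)
  -- a section through the piece, étale locally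
  let Bg := Localization.Away g
  have : Algebra.Smooth R Bg := Algebra.Smooth.comp R B' Bg
  have hsm : Smooth (Spec.map (CommRingCat.ofHom (algebraMap R Bg))) :=
    (HasRingHomProperty.Spec_iff (P := @Smooth)).mpr (RingHom.smooth_algebraMap.mpr this)
  obtain ⟨bg, hbg'⟩ : ∃ bg : PrimeSpectrum Bg, PrimeSpectrum.comap (algebraMap B' Bg) bg = b' := by
    have : b' ∈ Set.range (PrimeSpectrum.comap (algebraMap B' Bg)) := by
      rw [PrimeSpectrum.localization_away_comap_range Bg g]
      exact hbg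
    exact this
  obtain ⟨S₂, g₂, s', hg₂, hgs, h, hh⟩ :=
    AlgSpCov.exists_etale_section (Spec.map (CommRingCat.ofHom (algebraMap R Bg))) bg
  obtain ⟨W, hW, hsW, -⟩ := exists_isAffineOpen_mem_and_subset (X := S₂) (x := s') (U := ⊤) trivial
  let R₂ : Type u := Γ(S₂, W)
  let _ : Algebra R R₂ := (Spec.preimage (hW.fromSpec ≫ g₂)).hom.toAlgebra
  have hR₂ : hW.fromSpec ≫ g₂ = Spec.map (CommRingCat.ofHom (algebraMap R R₂)) := (Spec.map_preimage _).symm
  let ψg : CommRingCat.of Bg ⟶ CommRingCat.of R₂ := Spec.preimage (hW.fromSpec ≫ h)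
  let ψ : B' →ₐ[R] R₂ :=
    { ψg.hom.comp (algebraMap B' Bg) with
      commutes' := fun r => by
        show ψg (algebraMap B' Bg (algebraMap R B' r)) = algebraMap R R₂ r
        have h1 : CommRingCat.ofHom (algebraMap R Bg) ≫ ψg = CommRingCat.ofHom (algebraMap R R₂) := by
          apply Spec.map_injective
          rw [Spec.map_comp, Spec.map_preimage, Category.assoc, hh, hR₂]
        rw [← IsScalarTower.algebraMap_apply]
        exact congr(($h1).hom r) }
  have : Flat (Spec.map (CommRingCat.ofHom (algebraMap R R₂))) := by rw [← hR₂]; infer_instance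
  obtain ⟨s₂, hs₂⟩ : ∃ s₂, (Spec.map (CommRingCat.ofHom (algebraMap R R₂))) s₂ =
      pullback.snd f q (down q R' p) := by
    obtain ⟨s₂, hs₂⟩ : s' ∈ Set.range hW.fromSpec := by rw [hW.range_fromSpec]; exact hsW
    refine ⟨s₂, ?_⟩
    rw [← hR₂, Scheme.Hom.comp_apply, hs₂, hgs, ← hxF, ← Scheme.Hom.comp_apply, hj'snd]
    show PrimeSpectrum.comap (algebraMap R Bg) bg = PrimeSpectrum.comap (algebraMap R B') b'
    rw [← hbg', IsScalarTower.algebraMap_eq R B' Bg]
    rfl
  -- the point upstairs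
  obtain ⟨w, hwp⟩ := mem_range_chartMap (j' ≫ pullback.fst f q) q hw' R' p (hO.isoSpec.hom ⟨_, hpO⟩) (by
    rw [hlift']
    show (hO.isoSpec.hom ≫ hO.fromSpec) ⟨_, hpO⟩ = _
    rw [IsAffineOpen.isoSpec_hom_fromSpec]
    rfl)
  let C := R' ⊗[R] B'
  let m₀ : Spec (CommRingCat.of (R₂ ⊗[R] C)) ⟶ Spec (CommRingCat.of C) :=
    Spec.map (CommRingCat.ofHom (Algebra.TensorProduct.includeRight : C →ₐ[R] R₂ ⊗[R] C).toRingHom)
  have hm₀ : Flat m₀ := by
    rw [show m₀ = (pullbackSpecIso R R₂ C).inv ≫ pullback.snd _ _ from (pullbackSpecIso_inv_snd R R₂ C).symm]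
    infer_instance
  obtain ⟨w₂, hw₂⟩ : ∃ w₂, m₀ w₂ = w := by
    obtain ⟨v, -, hv⟩ := Scheme.Pullback.exists_preimage_pullback
      (f := Spec.map (CommRingCat.ofHom (algebraMap R R₂))) (g := Spec.map (CommRingCat.ofHom (algebraMap R C)))
      s₂ w (by
        rw [hs₂, ← hwp, ← Scheme.Hom.comp_apply, ← Scheme.Hom.comp_apply]
        congr 1
        rw [down, pullback.lift_snd, ← Category.assoc, chartMap_snd, ← Spec.map_comp]
        congr 3)
    refine ⟨(pullbackSpecIso R R₂ C).hom v, ?_⟩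
    rw [← Scheme.Hom.comp_apply]
    erw [pullbackSpecIso_hom_snd]
    exact hv
  -- `J'` dies
  obtain ⟨J', -, hJ'⟩ := exists_ideal_factor_fg y (CommRingCat.of B') (j' ≫ pullback.fst f q)
  let m : Spec (CommRingCat.of (R₂ ⊗[R] C)) ⟶ _ := m₀ ≫ chartMap (j' ≫ pullback.fst f q) q hw' R'
  have := isOpenImmersion_chartMap (j' ≫ pullback.fst f q) q hw' R' hj'
  have := isOpenImmersion_chartMap a q hw R' hj
  let L := Localization.Away ((1 : R') ⊗ₜ[R] g : C)
  let mL : Spec (CommRingCat.of L) ⟶ pullback f (Spec.map (CommRingCat.ofHom (algebraMap R R')) ≫ q) :=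
    Spec.map (CommRingCat.ofHom (algebraMap C L)) ≫ chartMap (j' ≫ pullback.fst f q) q hw' R'
  have hrange : Set.range mL ⊆ Set.range (chartMap a q hw R') := by
    rintro _ ⟨z, rfl⟩
    let z' : ↥(Spec (CommRingCat.of B')) := (Spec.map (CommRingCat.ofHom (algebraMap C L)) ≫
      Spec.map (CommRingCat.ofHom (Algebra.TensorProduct.includeRight : B' →ₐ[R] C).toRingHom)) z
    have hz' : z' ∈ PrimeSpectrum.basicOpen g := by
      intro hmem
      exact (z : PrimeSpectrum L).isPrime.ne_top (Ideal.eq_top_of_isUnit_mem _ hmem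
        (IsLocalization.Away.algebraMap_isUnit (S := L) ((1 : R') ⊗ₜ[R] g : C)))
    obtain ⟨b, hb⟩ := hgj hz'
    refine mem_range_chartMap a q hw R' _ b (hb.trans ?_)
    rw [← hlift', ← Scheme.Hom.comp_apply, ← Scheme.Hom.comp_apply]
    congr 1
    simp only [mL, Category.assoc]
    rw [(isPullback_chartMap (j' ≫ pullback.fst f q) q hw' R').w]
  have hJL : J' ≤ RingHom.ker ((algebraMap C L).comp
      (Algebra.TensorProduct.includeRight : B' →ₐ[R] C).toRingHom) := by
    refine (hJ' (CommRingCat.of L) (CommRingCat.ofHom _)).mp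
      ⟨IsOpenImmersion.lift (chartMap a q hw R') mL hrange ≫ lU, ?_⟩
    rw [Category.assoc, hlU, ← chartMap_fst a q hw R', IsOpenImmersion.lift_fac_assoc]
    show (_ ≫ _) ≫ _ = _
    rw [Category.assoc, chartMap_fst, ← Spec.map_comp_assoc]
    rfl
  obtain ⟨l, hl⟩ := (hJ' (CommRingCat.of (R₂ ⊗[R] C)) (CommRingCat.ofHom
    ((Algebra.TensorProduct.includeRight : C →ₐ[R] R₂ ⊗[R] C).comp
      (Algebra.TensorProduct.includeRight : B' →ₐ[R] C)).toRingHom)).mpr fun x hx => by
    obtain ⟨⟨_, k, rfl⟩, hk⟩ := (IsLocalization.map_eq_zero_iff (Submonoid.powers ((1 : R') ⊗ₜ[R] g : C)) L _).mp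
      (show algebraMap C L ((1 : R') ⊗ₜ[R] x) = 0 from hJL hx)
    have h1 := eq_zero_of_piece ψ g
      (((IsLocalization.Away.algebraMap_isUnit (S := Bg) g)).map ψg.hom)
      (fun K _ _ eK => connectedSpace_chart (j' ≫ pullback.fst f q) q hw' hj' hconn K eK) R' x k hk
    rw [Algebra.TensorProduct.one_def] at h1
    have h2 := congrArg (TensorProduct.assoc R R₂ R' B') h1
    rw [map_zero, TensorProduct.assoc_tmul] at h2
    exact h2
  refine ⟨_, m, l, inferInstance, ⟨w₂, by rw [Scheme.Hom.comp_apply, hw₂, hwp]⟩, ?_⟩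
  rw [hl, Category.assoc, chartMap_fst, ← Spec.map_comp_assoc]
  rfl

/-- On a chart with a section the locus is given by an ideal. -/
theorem exists_ideal_of_chart (hconn : ∀ s : S, ConnectedSpace ↥(pullback f (Red.geomPt s)))
    {R B : Type u} [CommRing R] [CommRing B] [Algebra R B]
    (a : Spec (CommRingCat.of B) ⟶ X) (q : Spec (CommRingCat.of R) ⟶ S)
    (hw : a ≫ f = Spec.map (CommRingCat.ofHom (algebraMap R B)) ≫ q)
    (hj : IsOpenImmersion (pullback.lift a (Spec.map (CommRingCat.ofHom (algebraMap R B))) hw))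
    (e : B →ₐ[R] R) :
    ∃ I : Ideal R, (LocallyOfFinitePresentation y → I.FG) ∧ ∀ (C : CommRingCat.{u}) (φ : CommRingCat.of R ⟶ C),
      Lands f y (Spec.map φ ≫ q) ↔ I ≤ RingHom.ker φ.hom := by
  have := smooth_of_chart a q hw hj
  obtain ⟨J, hJfg, hJ⟩ := exists_ideal_factor_fg y (CommRingCat.of B) a
  obtain ⟨I, hIfg, hI⟩ := exists_ideal (fun K _ _ _ =>
    connectedSpace_chart a q hw hj hconn K ((Algebra.ofId R K).comp e)) e J
  refine ⟨I, fun h => hIfg (hJfg h), fun C φ => ?_⟩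
  let _ : Algebra R C := φ.hom.toAlgebra
  have key := hI C
  refine ⟨fun hL => ?_, fun hle => ?_⟩
  · refine key.mpr fun x hx => ?_
    obtain ⟨l, hl⟩ := hL
    exact (hJ (CommRingCat.of (C ⊗[R] B))
      (CommRingCat.ofHom (Algebra.TensorProduct.includeRight : B →ₐ[R] C ⊗[R] B).toRingHom)).mp
      ⟨chartMap a q hw C ≫ l, (Category.assoc _ _ _).trans
        ((congrArg (chartMap a q hw C ≫ ·) hl).trans (chartMap_fst a q hw C))⟩ hx
  · exact lands_of_chart y hconn a q hw hj e C ((hJ (CommRingCat.of (C ⊗[R] B))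
      (CommRingCat.ofHom (Algebra.TensorProduct.includeRight : B →ₐ[R] C ⊗[R] B).toRingHom)).mpr
      fun x hx => key.mp hle x hx)

end Groth.Agent.DiagRig.WeilLocus
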